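/-
General facts about Steiner systems: block counts and the Leech triangle.
-/
import Cfsg.Prelude.Def_Sporadic_a

set_option autoImplicit false

namespace CfsgLib.Steiner

open Cfsg

variable {α : Type*} [Fintype α] {t k : ℕ} {B : Set (Finset α)}

/-- The number of blocks containing `A` and disjoint from `D`. -/
noncomputable def num (B : Set (Finset α)) (A D : Finset α) : ℕ :=
  Set.ncard {b | b ∈ B ∧ A ⊆ b ∧ Disjoint D b}

section
variable [DecidableEq α]

/-- Any block through a `t`-set is unique. -/
theorem block_unique (hB : IsSteinerSystem t k B) {s b c : Finset α} (hs : s.card = t)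
    (hb : b ∈ B) (hc : c ∈ B) (h1 : s ⊆ b) (h2 : s ⊆ c) : b = c := by
  obtain ⟨d, -, hd⟩ := hB.2 s hs
  rw [hd b ⟨hb, h1⟩, hd c ⟨hc, h2⟩]

/-- Blocks are large enough when the design has a block at all. -/
theorem card_blocks_through (hB : IsSteinerSystem t k B) (A : Finset α) (hA : A.card ≤ t) :
    num B A ∅ * Nat.choose (k - A.card) (t - A.card) =
      Nat.choose (Fintype.card α - A.card) (t - A.card) := by
  classical
  set BA : Finset (Finset α) := (Set.toFinite {b | b ∈ B ∧ A ⊆ b}).toFinset with hBA
  have hmem : ∀ b, b ∈ BA ↔ b ∈ B ∧ A ⊆ b := by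
    intro b; simp [hBA]
  have hnum : num B A ∅ = BA.card := by
    unfold num
    rw [← Set.ncard_coe_finset BA]
    congr 1
    ext b
    simp [hmem]
  have hcover : Finset.powersetCard (t - A.card) (Finset.univ \ A) =
      BA.biUnion (fun b => Finset.powersetCard (t - A.card) (b \ A)) := by
    ext s
    simp only [Finset.mem_powersetCard, Finset.mem_biUnion]
    constructor
    · rintro ⟨hs, hc⟩
      have hdis : Disjoint s A := by
        rw [Finset.disjoint_left]
        intro x hx hxA
        have := hs hx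
        simp [hxA] at this
      have hcard : (s ∪ A).card = t := by
        rw [Finset.card_union_of_disjoint hdis, hc]
        omega
      obtain ⟨b, ⟨hb, hsb⟩, -⟩ := hB.2 _ hcard
      refine ⟨b, (hmem b).mpr ⟨hb, fun x hx => hsb (Finset.mem_union_right _ hx)⟩, ?_, hc⟩
      intro x hx
      rw [Finset.mem_sdiff]
      exact ⟨hsb (Finset.mem_union_left _ hx), Finset.disjoint_left.mp hdis hx⟩
    · rintro ⟨b, -, hsb, hc⟩
      refine ⟨fun x hx => ?_, hc⟩
      have := hsb hx
      simp only [Finset.mem_sdiff, Finset.mem_univ, true_and] at this ⊢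
      exact this.2
  have hpair : (BA : Set (Finset α)).PairwiseDisjoint
      (fun b => Finset.powersetCard (t - A.card) (b \ A)) := by
    intro b hb c hc hbc
    rw [Function.onFun, Finset.disjoint_left]
    intro s hs1 hs2
    obtain ⟨hsb, hsc⟩ := Finset.mem_powersetCard.mp hs1
    obtain ⟨hsb', -⟩ := Finset.mem_powersetCard.mp hs2
    have hb' := (hmem b).mp (Finset.mem_coe.mp hb)
    have hc' := (hmem c).mp (Finset.mem_coe.mp hc)
    have hdis : Disjoint s A := by
      rw [Finset.disjoint_left]
      intro x hx hxA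
      have := hsb hx
      simp [hxA] at this
    have hcard : (s ∪ A).card = t := by
      rw [Finset.card_union_of_disjoint hdis, hsc]
      omega
    apply hbc
    refine block_unique hB hcard hb'.1 hc'.1 ?_ ?_
    · exact Finset.union_subset (fun x hx => (Finset.mem_sdiff.mp (hsb hx)).1) hb'.2
    · exact Finset.union_subset (fun x hx => (Finset.mem_sdiff.mp (hsb' hx)).1) hc'.2
  have h1 := congrArg Finset.card hcover
  rw [Finset.card_powersetCard, Finset.card_biUnion hpair] at h1
  have h2 : ∀ b ∈ BA, (Finset.powersetCard (t - A.card) (b \ A)).card =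
      Nat.choose (k - A.card) (t - A.card) := by
    intro b hb
    have hb' := (hmem b).mp hb
    rw [Finset.card_powersetCard, Finset.card_sdiff_of_subset hb'.2, hB.1 b hb'.1]
  rw [Finset.sum_congr rfl h2, Finset.sum_const, smul_eq_mul,
    Finset.card_sdiff_of_subset (Finset.subset_univ _), Finset.card_univ] at h1
  rw [hnum]
  exact h1.symm

/-- Counting pairs (t-subset, block). -/
theorem card_mul_choose (hB : IsSteinerSystem t k B) :
    B.ncard * Nat.choose k t = Nat.choose (Fintype.card α) t := by
  have h := card_blocks_through hB ∅ (by simp)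
  simp only [Finset.card_empty, Nat.sub_zero] at h
  have h2 : num B ∅ ∅ = B.ncard := by
    unfold num
    congr 1
    ext b
    simp
  rwa [h2] at h

/-- The recursive step of the Leech triangle. -/
theorem num_add (A D : Finset α) (x : α) (hxA : x ∉ A) (hxD : x ∉ D) :
    num B A (insert x D) + num B (insert x A) D = num B A D := by
  unfold num
  have hfin : {b | b ∈ B ∧ A ⊆ b ∧ Disjoint D b}.Finite := Set.toFinite _
  have hU : {b | b ∈ B ∧ A ⊆ b ∧ Disjoint D b} =
      {b | b ∈ B ∧ A ⊆ b ∧ Disjoint (insert x D) b} ∪ {b | b ∈ B ∧ insert x A ⊆ b ∧ Disjoint D b} := by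
    ext b
    simp only [Set.mem_union, Set.mem_ofPred_eq, Finset.disjoint_insert_left, Finset.insert_subset_iff]
    tauto
  rw [hU, Set.ncard_union_eq]
  rw [Set.disjoint_left]
  rintro b ⟨-, -, h1⟩ ⟨-, h2, -⟩
  exact (Finset.disjoint_insert_left.mp h1).1 (h2 (Finset.mem_insert_self _ _))

/-- The Leech triangle: given the numbers of blocks through subsets of a set `X`, the numbers of
blocks through `A` and missing `D` are determined by the sizes. -/
def tri (L : ℕ → ℕ) : ℕ → ℕ → ℕ
  | i, 0 => L i
  | i, j + 1 => tri L i j - tri L (i + 1) j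

theorem num_eq_tri (L : ℕ → ℕ) (X : Finset α)
    (hL : ∀ A : Finset α, A ⊆ X → num B A ∅ = L A.card) (j : ℕ) :
    ∀ A D : Finset α, A ⊆ X → D ⊆ X → Disjoint A D → D.card = j → num B A D = tri L A.card j := by
  induction j with
  | zero =>
    intro A D hA _ _ hD
    rw [Finset.card_eq_zero] at hD
    subst hD
    exact hL A hA
  | succ j ih =>
    intro A D hA hD hdis hcard
    obtain ⟨x, D', hx, rfl, hc⟩ := Finset.card_eq_succ.mp hcard
    have hxA : x ∉ A := fun h => Finset.disjoint_right.mp hdis (Finset.mem_insert_self _ _) h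
    have hsub : D' ⊆ X := fun y hy => hD (Finset.mem_insert_of_mem hy)
    have hxX : x ∈ X := hD (Finset.mem_insert_self _ _)
    have h1 := num_add (B := B) A D' x hxA hx
    have h2 := ih A D' hA hsub (Finset.disjoint_of_subset_right (Finset.subset_insert _ _) hdis) hc
    have h3 := ih (insert x A) D' (Finset.insert_subset hxX hA) hsub
      (by
        rw [Finset.disjoint_insert_left]
        exact ⟨hx, Finset.disjoint_of_subset_right (Finset.subset_insert _ _) hdis⟩) hc
    rw [Finset.card_insert_of_notMem hxA] at h3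
    simp only [tri]
    omega

/-- For a block `b0` of the design and `A ⊆ b0` with at least `t` points, `b0` is the only block
through `A`. -/
theorem num_empty_of_large (hB : IsSteinerSystem t k B) {b0 A : Finset α} (hb0 : b0 ∈ B) (hA : A ⊆ b0)
    (hc : t ≤ A.card) : num B A ∅ = 1 := by
  unfold num
  obtain ⟨s, hsA, hs⟩ := Finset.exists_subset_card_eq hc
  rw [Set.ncard_eq_one]
  refine ⟨b0, ?_⟩
  ext b
  simp only [Set.mem_ofPred_eq, Finset.disjoint_empty_left, and_true, Set.mem_singleton_iff]
  constructor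
  · rintro ⟨hb, hAb⟩
    exact block_unique hB hs hb hb0 (hsA.trans hAb) (hsA.trans hA)
  · rintro rfl
    exact ⟨hb0, hA⟩

/-- The blocks meeting `b0` exactly in `A`. -/
theorem num_exact_eq (b0 A : Finset α) (hA : A ⊆ b0) :
    Set.ncard {c | c ∈ B ∧ b0 ∩ c = A} = num B A (b0 \ A) := by
  unfold num
  congr 1
  ext c
  simp only [Set.mem_ofPred_eq]
  constructor
  · rintro ⟨hc, rfl⟩
    refine ⟨hc, Finset.inter_subset_right, ?_⟩
    rw [Finset.disjoint_left]
    intro x hx hxc
    rw [Finset.mem_sdiff, Finset.mem_inter] at hx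
    exact hx.2 ⟨hx.1, hxc⟩
  · rintro ⟨hc, hAc, hdis⟩
    refine ⟨hc, ?_⟩
    ext x
    rw [Finset.mem_inter]
    constructor
    · rintro ⟨hx, hxc⟩
      by_contra hxA
      exact Finset.disjoint_left.mp hdis (Finset.mem_sdiff.mpr ⟨hx, hxA⟩) hxc
    · intro hx
      exact ⟨hA hx, hAc hx⟩

/-- Blocks meeting `b0` exactly in `A`: the count from the triangle. -/
theorem count_exact (L : ℕ → ℕ) (b0 A : Finset α)
    (hL : ∀ A : Finset α, A ⊆ b0 → num B A ∅ = L A.card) (hA : A ⊆ b0) :
    Set.ncard {c | c ∈ B ∧ b0 ∩ c = A} = tri L A.card (b0.card - A.card) := by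
  rw [num_exact_eq b0 A hA]
  exact num_eq_tri L b0 hL _ A (b0 \ A) hA Finset.sdiff_subset Finset.disjoint_sdiff
    (Finset.card_sdiff_of_subset hA)

/-- If the triangle vanishes there is no block meeting `b0` exactly in `A`. -/
theorem no_exact (L : ℕ → ℕ) (b0 A c : Finset α)
    (hL : ∀ A : Finset α, A ⊆ b0 → num B A ∅ = L A.card) (hA : A ⊆ b0)
    (h0 : tri L A.card (b0.card - A.card) = 0) (hc : c ∈ B) : b0 ∩ c ≠ A := by
  intro h
  have h1 := count_exact L b0 A hL hA
  rw [h0, Set.ncard_eq_zero (Set.toFinite _)] at h1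
  have : c ∈ ({c | c ∈ B ∧ b0 ∩ c = A} : Set (Finset α)) := ⟨hc, h⟩
  rw [h1] at this
  exact this

/-- Counting criterion for a Steiner system. -/
theorem steiner_of_count (h1 : ∀ b ∈ B, b.card = k)
    (h2 : ∀ b ∈ B, ∀ c ∈ B, ∀ s : Finset α, s.card = t → s ⊆ b → s ⊆ c → b = c)
    (h3 : B.ncard * Nat.choose k t = Nat.choose (Fintype.card α) t) : IsSteinerSystem t k B := by
  classical
  refine ⟨h1, ?_⟩
  set BF : Finset (Finset α) := (Set.toFinite B).toFinset with hBF
  have hmem : ∀ b, b ∈ BF ↔ b ∈ B := by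
    intro b; simp [hBF]
  have hcardB : B.ncard = BF.card := by
    rw [← Set.ncard_coe_finset BF]
    congr 1
    ext b
    simp [hmem]
  have hpair : (BF : Set (Finset α)).PairwiseDisjoint (fun b => Finset.powersetCard t b) := by
    intro b hb c hc hbc
    rw [Function.onFun, Finset.disjoint_left]
    intro s hs1 hs2
    obtain ⟨hsb, hsc⟩ := Finset.mem_powersetCard.mp hs1
    obtain ⟨hsb', -⟩ := Finset.mem_powersetCard.mp hs2
    exact hbc (h2 b ((hmem b).mp hb) c ((hmem c).mp hc) s hsc hsb hsb')
  have hsub : BF.biUnion (fun b => Finset.powersetCard t b) ⊆ Finset.powersetCard t Finset.univ := by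
    intro s hs
    obtain ⟨b, -, hs⟩ := Finset.mem_biUnion.mp hs
    exact Finset.mem_powersetCard.mpr ⟨Finset.subset_univ _, (Finset.mem_powersetCard.mp hs).2⟩
  have hcard : (BF.biUnion (fun b => Finset.powersetCard t b)).card =
      (Finset.powersetCard t (Finset.univ : Finset α)).card := by
    rw [Finset.card_biUnion hpair, Finset.card_powersetCard, Finset.card_univ]
    have : ∀ b ∈ BF, (Finset.powersetCard t b).card = Nat.choose k t := by
      intro b hb
      rw [Finset.card_powersetCard, h1 b ((hmem b).mp hb)]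
    rw [Finset.sum_congr rfl this, Finset.sum_const, smul_eq_mul, ← hcardB, h3]
  have heq := Finset.eq_of_subset_of_card_le hsub (le_of_eq hcard.symm)
  intro s hs
  have hs' : s ∈ Finset.powersetCard t (Finset.univ : Finset α) :=
    Finset.mem_powersetCard.mpr ⟨Finset.subset_univ _, hs⟩
  rw [← heq] at hs'
  obtain ⟨b, hb, hs⟩ := Finset.mem_biUnion.mp hs'
  obtain ⟨hsb, hsc⟩ := Finset.mem_powersetCard.mp hs
  refine ⟨b, ⟨(hmem b).mp hb, hsb⟩, ?_⟩
  rintro c ⟨hc, hsc'⟩
  exact h2 c hc b ((hmem b).mp hb) s hsc hsc' hsb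


/-! ### Specific parameters -/

/-- Blocks through `i` points of a block of an S(5, 8, 24). -/
def L5824 : ℕ → ℕ
  | 0 => 759 | 1 => 253 | 2 => 77 | 3 => 21 | 4 => 5 | _ => 1

theorem hL5824 (hα : Fintype.card α = 24) (hB : IsSteinerSystem 5 8 B) {b0 : Finset α} (hb0 : b0 ∈ B) :
    ∀ A : Finset α, A ⊆ b0 → num B A ∅ = L5824 A.card := by
  intro A hA
  by_cases h5 : 5 ≤ A.card
  · rw [num_empty_of_large hB hb0 hA h5]
    have h8 : A.card ≤ 8 := by rw [← hB.1 b0 hb0]; exact Finset.card_le_card hA
    generalize A.card = i at *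
    interval_cases i <;> rfl
  · have h := card_blocks_through hB A (by omega)
    rw [hα] at h
    generalize A.card = i at *
    have hi : i < 5 := by omega
    interval_cases i <;> simp only [L5824] <;> norm_num [Nat.choose] at h <;> omega

/-- Blocks through `i` points of a block of an S(4, 7, 23). -/
def L4723 : ℕ → ℕ
  | 0 => 253 | 1 => 77 | 2 => 21 | 3 => 5 | _ => 1

theorem hL4723 (hα : Fintype.card α = 23) (hB : IsSteinerSystem 4 7 B) {b0 : Finset α} (hb0 : b0 ∈ B) :
    ∀ A : Finset α, A ⊆ b0 → num B A ∅ = L4723 A.card := by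
  intro A hA
  by_cases h5 : 4 ≤ A.card
  · rw [num_empty_of_large hB hb0 hA h5]
    have h8 : A.card ≤ 7 := by rw [← hB.1 b0 hb0]; exact Finset.card_le_card hA
    generalize A.card = i at *
    interval_cases i <;> rfl
  · have h := card_blocks_through hB A (by omega)
    rw [hα] at h
    generalize A.card = i at *
    have hi : i < 4 := by omega
    interval_cases i <;> simp only [L4723] <;> norm_num [Nat.choose] at h <;> omega

/-- Blocks through `i` points of a block of an S(3, 6, 22). -/
def L3622 : ℕ → ℕ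
  | 0 => 77 | 1 => 21 | 2 => 5 | _ => 1

theorem hL3622 (hα : Fintype.card α = 22) (hB : IsSteinerSystem 3 6 B) {b0 : Finset α} (hb0 : b0 ∈ B) :
    ∀ A : Finset α, A ⊆ b0 → num B A ∅ = L3622 A.card := by
  intro A hA
  by_cases h5 : 3 ≤ A.card
  · rw [num_empty_of_large hB hb0 hA h5]
    have h8 : A.card ≤ 6 := by rw [← hB.1 b0 hb0]; exact Finset.card_le_card hA
    generalize A.card = i at *
    interval_cases i <;> rfl
  · have h := card_blocks_through hB A (by omega)
    rw [hα] at h
    generalize A.card = i at *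
    have hi : i < 3 := by omega
    interval_cases i <;> simp only [L3622] <;> norm_num [Nat.choose] at h <;> omega

/-- Blocks through `i` points of a block of an S(5, 6, 12). -/
def L5612 : ℕ → ℕ
  | 0 => 132 | 1 => 66 | 2 => 30 | 3 => 12 | 4 => 4 | _ => 1

theorem hL5612 (hα : Fintype.card α = 12) (hB : IsSteinerSystem 5 6 B) {b0 : Finset α} (hb0 : b0 ∈ B) :
    ∀ A : Finset α, A ⊆ b0 → num B A ∅ = L5612 A.card := by
  intro A hA
  by_cases h5 : 5 ≤ A.card
  · rw [num_empty_of_large hB hb0 hA h5]
    have h8 : A.card ≤ 6 := by rw [← hB.1 b0 hb0]; exact Finset.card_le_card hA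
    generalize A.card = i at *
    interval_cases i <;> rfl
  · have h := card_blocks_through hB A (by omega)
    rw [hα] at h
    generalize A.card = i at *
    have hi : i < 5 := by omega
    interval_cases i <;> simp only [L5612] <;> norm_num [Nat.choose] at h <;> omega

/-- Blocks through `i` points of a block of an S(4, 5, 11). -/
def L4511 : ℕ → ℕ
  | 0 => 66 | 1 => 30 | 2 => 12 | 3 => 4 | _ => 1

theorem hL4511 (hα : Fintype.card α = 11) (hB : IsSteinerSystem 4 5 B) {b0 : Finset α} (hb0 : b0 ∈ B) :
    ∀ A : Finset α, A ⊆ b0 → num B A ∅ = L4511 A.card := by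
  intro A hA
  by_cases h5 : 4 ≤ A.card
  · rw [num_empty_of_large hB hb0 hA h5]
    have h8 : A.card ≤ 5 := by rw [← hB.1 b0 hb0]; exact Finset.card_le_card hA
    generalize A.card = i at *
    interval_cases i <;> rfl
  · have h := card_blocks_through hB A (by omega)
    rw [hα] at h
    generalize A.card = i at *
    have hi : i < 4 := by omega
    interval_cases i <;> simp only [L4511] <;> norm_num [Nat.choose] at h <;> omega

/-- Intersection sizes: for two blocks `b0 ≠ c` of a Steiner system, the size of `b0 ∩ c` is one for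
which the bottom row of the triangle does not vanish. -/
theorem inter_card_ne (L : ℕ → ℕ) {b0 c : Finset α}
    (hL : ∀ A : Finset α, A ⊆ b0 → num B A ∅ = L A.card) (hc : c ∈ B) (i : ℕ)
    (h0 : tri L i (b0.card - i) = 0) : (b0 ∩ c).card ≠ i := by
  intro h
  apply no_exact L b0 (b0 ∩ c) c hL Finset.inter_subset_left _ hc rfl
  rw [h, h0]

end

end CfsgLib.Steiner
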